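import Cfsg.Agent.Helper31.PronAL.Defs
import Cfsg.Agent.Helper5.SLn

/-!
# S2225 block AL: pieces (TR) and (HH)
-/

set_option autoImplicit false
set_option linter.unusedSectionVars false
set_option linter.unusedVariables false

namespace Cfsg.Agent.Helper31.Pron

open Matrix Cfsg.Agent.Helper42.DZ Cfsg.Agent.Helper84.PSLn
open scoped commutatorElement

variable {n : ℕ} {F : Type*} [Field F]

/-- (TR) `[x_ab(c), x_bc(1)] = x_ac(c)` -/
theorem RR_trans {X : Subgroup (SLn n F)} {a b c : Fin n} (h1 : RR X a b) (h2 : RR X b c)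
    (hac : a ≠ c) : RR X a c := by
  obtain ⟨hab, h1⟩ := h1
  obtain ⟨hbc, h2⟩ := h2
  refine ⟨hac, fun l => ?_⟩
  rw [← Cfsg.Agent.Helper5.commutator_transvection hac hab hbc l, commutatorElement_def]
  exact X.mul_mem (X.mul_mem (X.mul_mem (h1 l) (h2 1)) (X.inv_mem (h1 l))) (X.inv_mem (h2 1))

/-- (HH) `h_ab(c) = x_ab(c) x_ba(-c⁻¹) x_ab(c) x_ab(-1) x_ba(1) x_ab(-1)` -/
theorem diag2n_mem {X : Subgroup (SLn n F)} {a b : Fin n} (h1 : RR X a b) (h2 : RR X b a)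
    (c : F) (hc : c ≠ 0) : Matrix.SpecialLinearGroup.diag2n h1.1 c hc ∈ X := by
  obtain ⟨hab, h1⟩ := h1
  obtain ⟨hba, h2⟩ := h2
  rw [Cfsg.Agent.Helper5.diag2n_eq_prod_transvection hab c hc]
  exact X.mul_mem (X.mul_mem (X.mul_mem (X.mul_mem (X.mul_mem (h1 c) (h2 _)) (h1 c)) (h1 _)) (h2 1))
    (h1 _)

end Cfsg.Agent.Helper31.Pron
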