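import Mathlib
import Cfsg.Prelude.Def_HallClasses
import Cfsg.Agent.Helper42.DZDefs
import Cfsg.Agent.Helper84.PSLnTv

/-!
# S2225 block AL (helper99 #15044): odd-index subgroups of `SL_n(F)`, `char F = 2`, are pronormal.
Vocabulary for the KEY LEMMA: a subgroup `X ≥ US` of `SL_n(F)` is normalised by the diagonal matrices.

* `SLn n F`, `US n F` (upper unitriangular), `IsMono` : `Cfsg.Agent.Helper42.DZ`
* `dgl D hD` (the diagonal element of `SL`)             : `Cfsg.Agent.Helper84.PSLn`
* `Matrix.SpecialLinearGroup.transvection hab c`         : Mathlib, `1 + c E_{ab}`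
* `RR X a b`                                             : the root subgroup `x_{ab}(F)` lies in `X`
-/

set_option autoImplicit false

namespace Cfsg.Agent.Helper31.Pron

open Matrix Cfsg.Agent.Helper42.DZ

variable {n : ℕ} {F : Type*} [Field F]

/-- the root subgroup `{1 + c E_{ab} : c ∈ F}` lies in `X` (and `a ≠ b`) -/
def RR (X : Subgroup (SLn n F)) (a b : Fin n) : Prop :=
  ∃ h : a ≠ b, ∀ c : F, Matrix.SpecialLinearGroup.transvection h c ∈ X

end Cfsg.Agent.Helper31.Pron
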