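import Cfsg.Agent.Helper31.PronAL.Basic
import Cfsg.Agent.Helper79.PronAL_OR
import Cfsg.Agent.Helper63.PronAL_DG
import Cfsg.Agent.Helper79.DZGGa
import Cfsg.Agent.Helper84.PSLnBorel
import Cfsg.Agent.Helper71.PronormalSelfNorm
import Cfsg.Agent.S3820

/-!
# S2225 block AL: the KEY LEMMA, the theorem for `SL_n`, and the theorem for `PSL_n`
-/

set_option autoImplicit false
set_option linter.unusedSectionVars false
set_option linter.unusedVariables false

namespace Cfsg.Agent.Helper31.Pron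

open Matrix Cfsg.Agent.Helper42.DZ Cfsg.Agent.Helper84.PSLn
open Cfsg.Agent.S4269 (cj mem_cj cj_mul cj_of_mem cj_of_mem_normalizer)
open Cfsg.Agent.Helper71

section key

variable {n : ℕ} {F : Type*} [Field F]

/-- (KEY) a subgroup of `SL_n(F)` containing the unitriangular group is normalised by the diagonal
matrices -/
theorem dgl_conj_mem {X : Subgroup (SLn n F)} (hX : US n F ≤ X) (D : Fin n → F) (hD : ∏ i, D i = 1)
    {x : SLn n F} (hx : x ∈ X) : dgl D hD * x * (dgl D hD)⁻¹ ∈ X := by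
  obtain ⟨u, hu, m, ⟨σ, hσ⟩, u', hu', rfl⟩ := Cfsg.Agent.Helper79.DZ.bruhat_SL x
  have hmX : m ∈ X := by
    have e : m = u⁻¹ * (u * m * u') * u'⁻¹ := by group
    rw [e]
    exact X.mul_mem (X.mul_mem (X.inv_mem (hX hu)) hx) (X.inv_mem (hX hu'))
  have hR : ∀ a b : Fin n, a ≠ b → σ.SameCycle a b → RR X a b :=
    fun a b hab hc => Cfsg.Agent.Helper79.Pron.RR_of_sameCycle hX hmX σ hσ hab hc
  have hne : ∀ i, D i ≠ 0 := dgl_ne_zero D hD
  obtain ⟨t, htX, ht⟩ := Cfsg.Agent.Helper63.Pron.diag_quot_mem σ hR (fun i => Units.mk0 (D i) (hne i))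
  have hdm : dgl D hD * m * (dgl D hD)⁻¹ = t * m := by
    apply Subtype.ext
    ext i j
    rw [dgl_conj_apply, Matrix.SpecialLinearGroup.coe_mul, ht, Matrix.diagonal_mul]
    by_cases hj : j = σ i
    · subst hj
      simp only [Units.val_div_eq_div_val, Units.val_mk0]
      ring
    · rw [hσ i j hj]
      simp
  have e : dgl D hD * (u * m * u') * (dgl D hD)⁻¹
      = (dgl D hD * u * (dgl D hD)⁻¹) * (dgl D hD * m * (dgl D hD)⁻¹)
        * (dgl D hD * u' * (dgl D hD)⁻¹) := by group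
  rw [e, hdm]
  exact X.mul_mem (X.mul_mem (hX (dgl_conj_mem_UT D hD hu)) (X.mul_mem htX hmX))
    (hX (dgl_conj_mem_UT D hD hu'))

/-- a subgroup containing `US` is fixed under conjugation by the normaliser of `US` -/
theorem cj_eq_of_mem_normalizer_US {X : Subgroup (SLn n F)} (hX : US n F ≤ X) {g : SLn n F}
    (hg : g ∈ Subgroup.normalizer ((US n F : Subgroup (SLn n F)) : Set (SLn n F))) :
    cj g X = X := by
  obtain ⟨D, hD, u, hu, rfl⟩ := exists_dgl_mul_UT (upper_of_mem_normalizer_UT hg)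
  rw [cj_mul, cj_of_mem (hX hu)]
  apply le_antisymm
  · rintro _ ⟨x, hx, rfl⟩
    exact dgl_conj_mem hX D hD hx
  · intro x hx
    refine ⟨(dgl D hD)⁻¹ * x * dgl D hD, ?_, ?_⟩
    · have := dgl_conj_mem hX (fun i => (D i)⁻¹) (prod_inv_eq_one D hD) hx
      rwa [← dgl_inv, inv_inv] at this
    · show dgl D hD * ((dgl D hD)⁻¹ * x * dgl D hD) * (dgl D hD)⁻¹ = x
      group

end key

section general

variable {G : Type*} [Group G] [Finite G] {p : ℕ} [Fact p.Prime]

/-- Sylow subgroups are pronormal -/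
theorem sylow_isPronormal (P : Sylow p G) : Cfsg.IsPronormal (P : Subgroup G) := by
  intro g
  have h1 : (P : Subgroup G) ≤ (P : Subgroup G) ⊔ cj g (P : Subgroup G) := le_sup_left
  have h2 : cj g (P : Subgroup G) ≤ (P : Subgroup G) ⊔ cj g (P : Subgroup G) := le_sup_right
  obtain ⟨y, hy, hye⟩ := exists_cj_eq_of_sylow_le h1 h2 P.2 (sylow_not_dvd_relIndex P h1)
    (card_cj g _)
  exact ⟨y, hy, hye.symm⟩

/-- a subgroup of index prime to `p` contains a conjugate of every `p`-subgroup -/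
theorem exists_cj_le_of_not_dvd_index {P : Subgroup G} (hP : IsPGroup p P) (K : Subgroup G)
    (hK : ¬ p ∣ K.index) : ∃ g : G, cj g P ≤ K := by
  have hne := hP.nonempty_fixed_point_of_prime_not_dvd_card (G ⧸ K)
    (by rwa [← Subgroup.index_eq_card])
  obtain ⟨q, hq⟩ := hne
  induction q using QuotientGroup.induction_on with
  | H g =>
    refine ⟨g⁻¹, ?_⟩
    rintro _ ⟨x, hx, rfl⟩
    have h1 := hq ⟨x, hx⟩
    have h2 : ((x * g : G) : G ⧸ K) = (g : G ⧸ K) := h1
    rw [QuotientGroup.eq] at h2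
    show g⁻¹ * x * g⁻¹⁻¹ ∈ K
    have e : g⁻¹ * x * g⁻¹⁻¹ = ((x * g)⁻¹ * g)⁻¹ := by group
    rw [e]
    exact K.inv_mem h2

end general

section sl

variable {n : ℕ} {F : Type*} [Field F] [Fintype F] [CharP F 2]

/-- (SL) odd-index subgroups of `SL_n(F)`, `F` finite of characteristic `2`, are pronormal -/
theorem sl_pronormal (K : Subgroup (SLn n F)) (hK : Odd K.index) : Cfsg.IsPronormal K := by
  rcases Nat.eq_zero_or_pos n with hn | hn
  · subst hn
    haveI : Subsingleton (SLn 0 F) := ⟨fun a b => Subtype.ext (Subsingleton.elim _ _)⟩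
    intro g
    refine ⟨1, Subgroup.one_mem _, ?_⟩
    rw [Subsingleton.elim g 1]
  haveI : Fact (Nat.Prime 2) := ⟨Nat.prime_two⟩
  obtain ⟨f, -, hF⟩ := FiniteField.card F 2
  let P : Sylow 2 (SLn n F) :=
    Sylow.ofCard (US n F) (Cfsg.Agent.Helper14.AutPSL.card_UT_eq hF f.pos n hn)
  have hP : (P : Subgroup (SLn n F)) = US n F := Sylow.coe_ofCard _ _
  have hUSp : IsPGroup 2 (US n F) := hP ▸ P.2
  have hKi : ¬ 2 ∣ K.index := fun h => (Nat.not_even_iff_odd.mpr hK) (even_iff_two_dvd.mpr h)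
  obtain ⟨g, hg⟩ := exists_cj_le_of_not_dvd_index hUSp K hKi
  have hUX : US n F ≤ cj g⁻¹ K := by
    have := cj_mono hg g⁻¹
    rwa [cj_inv_cj] at this
  have hXp : Cfsg.IsPronormal (cj g⁻¹ K) := by
    have hUSpr : Cfsg.IsPronormal (US n F) := hP ▸ sylow_isPronormal P
    rw [Cfsg.Agent.S3820.result (US n F) (cj g⁻¹ K) hUX hUSpr]
    intro y hy
    refine ⟨1, Subgroup.one_mem _, ?_⟩
    show cj y (cj g⁻¹ K) = cj 1 (cj g⁻¹ K)
    rw [cj_one, cj_eq_of_mem_normalizer_US hUX hy]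
  have h3 := isPronormal_map (MulAut.conj g).toMonoidHom (MulAut.conj g).surjective hXp
  have e : (cj g⁻¹ K).map (MulAut.conj g).toMonoidHom = K := cj_cj_inv g K
  rwa [e] at h3

end sl

/-- (BLOCK AL) every odd-index subgroup of `PSL_n(F)`, `F` finite of characteristic `2`, is pronormal -/
theorem sl_char2_pronormal {F : Type*} [Field F] [Fintype F] [CharP F 2] (n : ℕ)
    (H : Subgroup (Matrix.ProjectiveSpecialLinearGroup (Fin n) F)) (hH : Odd H.index) :
    Cfsg.IsPronormal H := by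
  let π : SLn n F →* Matrix.ProjectiveSpecialLinearGroup (Fin n) F := QuotientGroup.mk' _
  have hπ : Function.Surjective π := QuotientGroup.mk'_surjective _
  have hK : Odd (H.comap π).index := by rwa [Subgroup.index_comap_of_surjective H hπ]
  have h3 := isPronormal_map π hπ (sl_pronormal (H.comap π) hK)
  rwa [Subgroup.map_comap_eq_self_of_surjective hπ] at h3

end Cfsg.Agent.Helper31.Pron
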